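import Mathlib
import Groth.Agent.Lib.Helper1.AmpleH1
import Groth.Agent.Lib.Helper1.RelSerre1
import Groth.Agent.Lib.Helper1.FtLocal
import Groth.Agent.Lib.Helper1.Dv21
import Groth.Agent.Lib.Helper1.CohACC
import Groth.Agent.Lib.Helper4.RpushSec1

set_option linter.style.haveILetI false
set_option linter.unusedVariables false
set_option linter.unusedSectionVars false
set_option autoImplicit false
set_option backward.isDefEq.respectTransparency.types false
set_option synthInstance.maxHeartbeats 400000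
set_option maxHeartbeats 1600000

universe u

/-! helper7: cohomological criterion of relative ampleness over a Noetherian base (EGA III 2.6.1 (a) iff (c)): relative Serre vanishing for the module-level higher direct images, and ampleness over affine opens from the vanishing of R1 of twisted coherent ideals via extension of coherent ideals -/

open CategoryTheory CategoryTheory.Limits AlgebraicGeometry Opposite TopologicalSpace

namespace Groth.Agent.Helper7.RelH1

open Groth.Agent.Helper1.TwForm Groth.Agent.Helper1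

/-- a module whose sections over the members of a basis of opens all vanish is zero. -/
theorem isZero_of_basis_sections {Y : Scheme.{u}} (G : Y.Modules) (B : Set Y.Opens)
    (hB : Opens.IsBasis B) (h : ∀ W ∈ B, Subsingleton Γ(G, W)) : IsZero G := by
  apply Groth.Agent.Helper1.CohACC.isZero_of_sections
  intro V s
  let J := {W : Y.Opens // W ∈ B ∧ W ≤ V}
  apply TopCat.Sheaf.eq_of_locally_eq' (⟨G.presheaf, G.isSheaf⟩ : TopCat.Sheaf Ab Y)
    (fun p : J => p.1) V (fun p => homOfLE p.2.2)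
  · intro x hx
    obtain ⟨W, hW, hxW, hWV⟩ := (Opens.isBasis_iff_nbhd.mp hB) hx
    exact Opens.mem_iSup.2 ⟨⟨W, hW, hWV⟩, hxW⟩
  · rintro ⟨W, hW, hWV⟩
    exact @Subsingleton.elim _ (h W hW) _ _

/-- the sections of a zero module vanish. -/
theorem subsingleton_sections_of_isZero {Y : Scheme.{u}} {G : Y.Modules} (hG : IsZero G)
    (V : Y.Opens) : Subsingleton Γ(G, V) := by
  refine subsingleton_of_forall_eq 0 fun s => ?_
  have h1 : (𝟙 G : G ⟶ G) = 0 := (IsZero.iff_id_eq_zero G).mp hG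
  have h2 := congrArg (fun ψ : G ⟶ G => ψ.app V s) h1
  simpa using h2

variable {X Y : Scheme.{u}} (f : X ⟶ Y)

/-- **relative Serre vanishing for the module-level higher direct images**: for a proper morphism
to a Noetherian scheme and an invertible module ample over every affine open of the base, the
higher direct images of the high twists of a coherent module vanish. -/
theorem isZero_rpush_twist_of_ample [IsNoetherian Y] [IsProper f]
    [HasInjectiveResolutions X.Modules] (L : X.Modules) (hL : PicF.IsInvertible L)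
    (ha : ∀ V : Y.affineOpens, CohB1.IsAmple (L.restrict (f ⁻¹ᵁ V.1).ι))
    (M : X.Modules) (hM : Coh.IsCoh M) :
    ∃ N : ℕ, ∀ n : ℕ, N ≤ n → ∀ p : ℕ, 0 < p →
      IsZero ((Coh.Rpush f p).obj (CohB1.tensorMod M (CohB1.tensorPow L n))) := by
  classical
  obtain ⟨s, hs⟩ := isCompact_univ.elim_finite_subcover
    (fun i : Y.affineOpens => (i.1 : Set Y)) (fun i => i.1.2) (by
      intro x _
      obtain ⟨W, hW, hxW, -⟩ := (Opens.isBasis_iff_nbhd.mp Y.isBasis_affineOpens)
        (show x ∈ (⊤ : Y.Opens) from trivial)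
      exact Set.mem_iUnion.2 ⟨⟨W, hW⟩, hxW⟩)
  have key : ∀ V : Y.affineOpens, ∃ n₀ : ℕ, ∀ n : ℕ, n₀ ≤ n → ∀ p : ℕ, 0 < p →
      Subsingleton (Coh.HHon X (CohB1.tensorMod M (CohB1.tensorPow L n)) (f ⁻¹ᵁ V.1) p) := by
    intro V
    haveI : IsNoetherianRing Γ(Y, V.1) := IsLocallyNoetherian.component_noetherian V
    haveI : IsProper (RpushLoc.strMap f V.2) := by
      unfold RpushLoc.strMap
      infer_instance
    obtain ⟨n₀, hn₀⟩ := SerreAmple.serre_vanishing Γ(Y, V.1) (RpushLoc.strMap f V.2)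
      (ha V) (M.restrict (f ⁻¹ᵁ V.1).ι) (FinPush.isCoh_restrict _ M hM)
    refine ⟨n₀, fun n hn p hp => ?_⟩
    have hloc := locFrame_of_isInvertible (ha V).1 (ha V).1
    let e := RelAmpleLib.restrictTwistIso (f ⁻¹ᵁ V.1).ι (Iso.refl (M.restrict (f ⁻¹ᵁ V.1).ι))
      hloc n
    exact RpushLoc.subsingleton_HH_of_iso e.symm p (hn₀ n hn p hp)
  choose N hN using key
  refine ⟨s.sup N, fun n hn p hp => ?_⟩
  haveI : M.IsQuasicoherent := hM.1
  haveI : (CohB1.tensorPow L n).IsQuasicoherent :=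
    InvQc.isQuasicoherent_of_isInvertible _ (isInvertible_tensorPow hL n)
  haveI : (CohB1.tensorMod M (CohB1.tensorPow L n)).IsQuasicoherent :=
    Groth.Agent.Lead.TilT.isQuasicoherent_tensorMod _ _
  refine isZero_of_basis_sections _ {W : Y.Opens | IsAffineOpen W ∧ ∃ i ∈ s, W ≤ i.1} ?_ ?_
  · rw [Opens.isBasis_iff_nbhd]
    intro U x hx
    have hx' := hs (Set.mem_univ x)
    simp only [Set.mem_iUnion] at hx'
    obtain ⟨i, hi, hxi⟩ := hx'
    have hxUV : x ∈ U ⊓ i.1 := ⟨hx, hxi⟩
    obtain ⟨W, hW, hxW, hWle⟩ := (Opens.isBasis_iff_nbhd.mp Y.isBasis_affineOpens) hxUV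
    exact ⟨W, ⟨hW, i, hi, hWle.trans inf_le_right⟩, hxW, hWle.trans inf_le_left⟩
  · rintro W ⟨hW, i, hi, hle⟩
    have h1 := hN i n (le_trans (Finset.le_sup hi) hn) p hp
    haveI h2 := RpushLoc.subsingleton_HHon_of_le f (CohB1.tensorMod M (CohB1.tensorPow L n)) p
      i.2 hW hle h1
    letI : (↑(f ⁻¹ᵁ W) : Scheme.{u}).Over (Spec (CommRingCat.of Γ(Y, W))) :=
      ⟨RpushLoc.strMap f hW⟩
    obtain ⟨e⟩ := Groth.Agent.Lib.Helper4.RpushSec1.nonempty_sections_equiv f
      (CohB1.tensorMod M (CohB1.tensorPow L n)) hW p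
    exact e.toEquiv.subsingleton

/-- **cohomological criterion of relative ampleness, local form**: for a proper morphism to a
Noetherian scheme, if the first higher direct images of the high twists of every coherent ideal
vanish, then the invertible module is ample over every affine open of the base. -/
theorem isAmple_restrict_of_R1 [IsNoetherian Y] [IsProper f]
    [HasInjectiveResolutions X.Modules] (L : X.Modules) (hL : PicF.IsInvertible L)
    (h : ∀ (J : X.Modules) (ι : J ⟶ Coh.structureModule X), Mono ι → Coh.IsCoh J →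
      ∃ N : ℕ, ∀ n : ℕ, N ≤ n →
        IsZero ((Coh.Rpush f 1).obj (CohB1.tensorMod J (CohB1.tensorPow L n))))
    (V : Y.Opens) (hV : IsAffineOpen V) : CohB1.IsAmple (L.restrict (f ⁻¹ᵁ V).ι) := by
  haveI : IsLocallyNoetherian X := LocallyOfFiniteType.isLocallyNoetherian f
  haveI : CompactSpace X := QuasiCompact.compactSpace_of_compactSpace f
  have hc : IsCompact ((f ⁻¹ᵁ V : X.Opens) : Set X) :=
    QuasiCompact.isCompact_preimage (f := f) _ V.2 hV.isCompact
  haveI hcs : CompactSpace (↑(f ⁻¹ᵁ V) : Scheme.{u}) := isCompact_iff_compactSpace.mp hc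
  have hLU := AmpleLib.isInvertible_restrict (f ⁻¹ᵁ V).ι hL
  have hlocU := locFrame_of_isInvertible hLU hLU
  apply AmpleH1.isAmple_of_H1 hLU
  intro J' i' hmono hqc
  haveI := hmono
  haveI : J'.IsQuasicoherent := hqc
  have hcohJ' : Coh.IsCoh J' := FtLocal.isCoh_of_mono i' (Dv.isCoh_structureModule _) hqc
  let i'' : J' ⟶ (Coh.structureModule X).restrict (f ⁻¹ᵁ V).ι :=
    i' ≫ (Scheme.Modules.restrictUnitIso (f ⁻¹ᵁ V).ι).inv
  haveI : Mono i'' := mono_comp _ _
  obtain ⟨J, i, e, hmonoJ, hqcJ, hftJ, -⟩ :=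
    SubSh.exists_extension_cat_qcqs (F := Coh.structureModule X) (f ⁻¹ᵁ V) hc J' i'' hcohJ'.2
  obtain ⟨N, hN⟩ := h J i hmonoJ ⟨hqcJ, hftJ⟩
  refine ⟨N, ?_⟩
  have hz := hN (N + 1) (Nat.le_succ N)
  haveI : J.IsQuasicoherent := hqcJ
  haveI : (CohB1.tensorPow L (N + 1)).IsQuasicoherent :=
    InvQc.isQuasicoherent_of_isInvertible _ (isInvertible_tensorPow hL (N + 1))
  haveI : (CohB1.tensorMod J (CohB1.tensorPow L (N + 1))).IsQuasicoherent :=
    Groth.Agent.Lead.TilT.isQuasicoherent_tensorMod _ _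
  letI : (↑(f ⁻¹ᵁ V) : Scheme.{u}).Over (Spec (CommRingCat.of Γ(Y, V))) :=
    ⟨RpushLoc.strMap f hV⟩
  obtain ⟨e'⟩ := Groth.Agent.Lib.Helper4.RpushSec1.nonempty_sections_equiv f
    (CohB1.tensorMod J (CohB1.tensorPow L (N + 1))) hV 1
  haveI hsub0 : Subsingleton
      Γ((Coh.Rpush f 1).obj (CohB1.tensorMod J (CohB1.tensorPow L (N + 1))), V) :=
    subsingleton_sections_of_isZero hz V
  have hsub1 : Subsingleton (Coh.HH (↑(f ⁻¹ᵁ V))
      ((CohB1.tensorMod J (CohB1.tensorPow L (N + 1))).restrict (f ⁻¹ᵁ V).ι) 1) :=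
    e'.symm.toEquiv.subsingleton
  exact RpushLoc.subsingleton_HH_of_iso
    (RelAmpleLib.restrictTwistIso (f ⁻¹ᵁ V).ι e hlocU (N + 1)) 1 hsub1

/-- **cohomological criterion of relative ampleness** (EGA III 2.6.1, (a) ⇔ (c)). -/
theorem isRelAmple_iff_R1 [IsNoetherian Y] [IsProper f]
    [HasInjectiveResolutions X.Modules] (L : X.Modules) (hL : PicF.IsInvertible L) :
    RelAmple.IsRelAmple f L ↔
      ∀ (J : X.Modules) (ι : J ⟶ Coh.structureModule X), Mono ι → Coh.IsCoh J →
        ∃ N : ℕ, ∀ n : ℕ, N ≤ n →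
          IsZero ((Coh.Rpush f 1).obj (CohB1.tensorMod J (CohB1.tensorPow L n))) := by
  constructor
  · rintro ⟨-, ha⟩ J ι - hJ
    obtain ⟨N, hN⟩ := isZero_rpush_twist_of_ample f L hL ha J hJ
    exact ⟨N, fun n hn => hN n hn 1 Nat.one_pos⟩
  · intro h
    exact ⟨inferInstance, fun V => isAmple_restrict_of_R1 f L hL h V.1 V.2⟩

end Groth.Agent.Helper7.RelH1
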